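import Groth.Agent.CohDer1.HyperPush.Sections
import Groth.Agent.SiteCoh.CechAcyclic

/-!
# The filtration on sections cohomology of a complex of sheaves induced by a cover

Zigzags in the Cech double complex of a complex of sheaves on a space.
-/

set_option autoImplicit false
set_option backward.isDefEq.respectTransparency false
set_option linter.style.haveILetI false

universe u

open CategoryTheory CategoryTheory.Limits Opposite TopologicalSpace
open Groth.Agent.SiteCoh
open Groth.Agent.CohDer1.HyperPush (preCx)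

namespace Groth.Agent.CechSS14

variable {X : TopCat.{u}} {ι : Type u} (U : ι → Opens X)

/-- Cochains of an abelian presheaf. -/
noncomputable abbrev C (P : (Opens X)ᵒᵖ ⥤ AddCommGrpCat.{u}) (p : ℕ) : AddCommGrpCat.{u} :=
  (Cech.cx P U).X p

/-- The map of cochains attached to a map of presheaves. -/
noncomputable def mapHom {P Q : (Opens X)ᵒᵖ ⥤ AddCommGrpCat.{u}} (φ : P ⟶ Q) (p : ℕ) : C U P p →+ C U Q p :=
  AddMonoidHom.mk' (fun x => Cech.map U φ x) (Cech.map_add U φ)

lemma ev_mapHom {P Q : (Opens X)ᵒᵖ ⥤ AddCommGrpCat.{u}} (φ : P ⟶ Q) {p : ℕ} (x : C U P p)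
    (a : Fin (p + 1) → ι) : Cech.ev Q U a (mapHom U φ p x) = φ.app (op (Cech.inter U a)) (Cech.ev P U a x) :=
  Cech.ev_map U φ x a

lemma mapHom_d {P Q : (Opens X)ᵒᵖ ⥤ AddCommGrpCat.{u}} (φ : P ⟶ Q) {p : ℕ} (x : C U P p) :
    mapHom U φ (p + 1) ((Cech.cx P U).d p (p + 1) x) = (Cech.cx Q U).d p (p + 1) (mapHom U φ p x) :=
  Cech.map_d U φ x

lemma mapHom_comp_eq_zero {P Q R : (Opens X)ᵒᵖ ⥤ AddCommGrpCat.{u}} (φ : P ⟶ Q) (ψ : Q ⟶ R) (h : φ ≫ ψ = 0)
    {p : ℕ} (x : C U P p) : mapHom U ψ p (mapHom U φ p x) = 0 :=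
  Cech.ext R U fun a => by
    rw [ev_mapHom, ev_mapHom, map_zero]
    exact ConcreteCategory.congr_hom (NatTrans.congr_app h _) _

lemma mapHom_injective {P Q : (Opens X)ᵒᵖ ⥤ AddCommGrpCat.{u}} (φ : P ⟶ Q)
    (h : ∀ V, Function.Injective (φ.app V)) (p : ℕ) : Function.Injective (mapHom U φ p) :=
  fun _ _ e => Cech.map_injective U φ (fun _ => h _) e

/-- The augmentation. -/
noncomputable def aug (P : (Opens X)ᵒᵖ ⥤ AddCommGrpCat.{u}) : P.obj (op ⊤) →+ C U P 0 :=
  AddMonoidHom.mk' (fun x => Cech.mk P U fun a => P.map (homOfLE le_top).op x)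
    fun x y => Cech.mk_add U P _ _ _ fun a => map_add _ x y

lemma ev_aug (P : (Opens X)ᵒᵖ ⥤ AddCommGrpCat.{u}) (x : P.obj (op ⊤)) (a : Fin 1 → ι) :
    Cech.ev P U a (aug U P x) = P.map (homOfLE le_top).op x :=
  Cech.ev_mk ..

lemma mapHom_aug {P Q : (Opens X)ᵒᵖ ⥤ AddCommGrpCat.{u}} (φ : P ⟶ Q) (x : P.obj (op ⊤)) :
    mapHom U φ 0 (aug U P x) = aug U Q (φ.app (op ⊤) x) :=
  Cech.ext Q U fun a => by rw [ev_mapHom, ev_aug, ev_aug, NatTrans.naturality_apply]

lemma d_aug (P : (Opens X)ᵒᵖ ⥤ AddCommGrpCat.{u}) (x : P.obj (op ⊤)) :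
    (Cech.cx P U).d 0 1 (aug U P x) = 0 := by
  refine Cech.ext P U fun a => ?_
  rw [Cech.ev_d, Fin.sum_univ_two, map_zero, ev_aug, ev_aug, ← ConcreteCategory.comp_apply,
    ← P.map_comp, ← ConcreteCategory.comp_apply, ← P.map_comp]
  simp only [Fin.val_zero, pow_zero, one_zsmul, Fin.val_one, pow_one, neg_smul]
  rw [add_neg_eq_zero]
  exact congrArg (fun m => P.map m x) (Subsingleton.elim _ _)

lemma injective_aug (hcov : iSup U = ⊤) (F : CohTop.Ab X) : Function.Injective (aug U F.obj) := fun x y h => by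
  refine ext_of_cover F (fun i => homOfLE (le_top : U i ≤ ⊤))
    (ofArrows_mem_of_le U (fun _ => le_top) hcov.ge) fun i => ?_
  have h' := congrArg (Cech.ev F.obj U (fun _ : Fin 1 => i)) h
  rw [ev_aug, ev_aug] at h'
  have hle : U i ≤ Cech.inter U (fun _ : Fin 1 => i) := leOfHom (Pi.lift fun _ => 𝟙 (U i))
  have h'' := congrArg (F.obj.map (homOfLE hle).op) h'
  rw [← ConcreteCategory.comp_apply, ← F.obj.map_comp, ← ConcreteCategory.comp_apply,
    ← F.obj.map_comp] at h''
  exact h''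

lemma exists_aug_eq (hcov : iSup U = ⊤) (F : CohTop.Ab X) (y : C U F.obj 0)
    (hy : (Cech.cx F.obj U).d 0 1 y = 0) : ∃ x, aug U F.obj x = y := by
  have hle : ∀ i, U i ≤ Cech.inter U (fun _ : Fin 1 => i) := fun i => leOfHom (Pi.lift fun _ => 𝟙 (U i))
  obtain ⟨t, ht, -⟩ := existsUnique_amalgamation F (fun i => homOfLE (le_top : U i ≤ ⊤))
    (ofArrows_mem_of_le U (fun _ => le_top) hcov.ge)
    (fun i => F.obj.map (homOfLE (hle i)).op (Cech.ev F.obj U (fun _ : Fin 1 => i) y))
    (fun i j Z f g _ => by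
      have hd := congrArg (Cech.ev F.obj U ![i, j]) hy
      rw [Cech.ev_d, Fin.sum_univ_two, map_zero] at hd
      simp only [Fin.val_zero, pow_zero, one_zsmul, Fin.val_one, pow_one, neg_smul] at hd
      rw [add_neg_eq_zero] at hd
      have hZ : Z ≤ Cech.inter U ![i, j] :=
        leOfHom (Pi.lift fun k => homOfLE (by fin_cases k; exacts [leOfHom f, leOfHom g]))
      have hd' := congrArg (F.obj.map (homOfLE hZ).op) hd
      rw [← ConcreteCategory.comp_apply, ← F.obj.map_comp, ← ConcreteCategory.comp_apply,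
        ← F.obj.map_comp] at hd'
      rw [← ConcreteCategory.comp_apply, ← F.obj.map_comp, ← ConcreteCategory.comp_apply,
        ← F.obj.map_comp]
      have e : ∀ (q : Fin 1 → ι) (r : ι) (hq : q = fun _ => r) (hr : Z ≤ Cech.inter U (fun _ : Fin 1 => r))
          (hq' : Z ≤ Cech.inter U q),
          F.obj.map (homOfLE hq').op (Cech.ev F.obj U q y) =
            F.obj.map (homOfLE hr).op (Cech.ev F.obj U (fun _ : Fin 1 => r) y) := by
        rintro q r rfl hr hq'
        rfl
      have h1 : (![i, j] : Fin 2 → ι) ∘ (0 : Fin 2).succAbove = fun _ => j :=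
        funext fun k => by fin_cases k; rfl
      have h2 : (![i, j] : Fin 2 → ι) ∘ (1 : Fin 2).succAbove = fun _ => i :=
        funext fun k => by fin_cases k; rfl
      refine (congrArg (fun m => F.obj.map m (Cech.ev F.obj U (fun _ : Fin 1 => i) y))
        (Subsingleton.elim _ (homOfLE ((leOfHom f).trans (hle i))).op)).trans ?_
      refine Eq.trans ?_ (congrArg (fun m => F.obj.map m (Cech.ev F.obj U (fun _ : Fin 1 => j) y))
        (Subsingleton.elim _ (homOfLE ((leOfHom g).trans (hle j))).op)).symm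
      refine ((e _ i h2 _ (leOfHom ((homOfLE hZ) ≫ Cech.face U ![i, j] 1))).symm.trans ?_).trans
        (e _ j h1 _ (leOfHom ((homOfLE hZ) ≫ Cech.face U ![i, j] 0)))
      exact (hd'.symm.trans rfl))
  refine ⟨t, Cech.ext F.obj U fun a => (ev_aug U F.obj t a).trans ?_⟩
  have ha : a = fun _ => a 0 := funext fun k => by fin_cases k; rfl
  generalize a 0 = i at ha
  subst ha
  have hle' : Cech.inter U (fun _ : Fin 1 => i) ≤ U i := leOfHom (Pi.π (fun _ : Fin 1 => U i) 0)
  have h := congrArg (F.obj.map (homOfLE hle').op) (ht i)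
  rw [← ConcreteCategory.comp_apply, ← F.obj.map_comp, ← ConcreteCategory.comp_apply,
    ← F.obj.map_comp] at h
  refine ((congrArg (fun m => F.obj.map m t) (Subsingleton.elim _ _)).trans h).trans ?_
  rw [show (homOfLE (hle i)).op ≫ (homOfLE hle').op = 𝟙 _ from Subsingleton.elim _ _, F.obj.map_id]
  rfl

section Complex

variable (I : CochainComplex (CohTop.Ab X) ℤ) (n : ℤ)

/-- The vertical differential. -/
noncomputable abbrev v (p : ℕ) (m m' : ℤ) : C U ((preCx I).X m) p →+ C U ((preCx I).X m') p :=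
  mapHom U ((preCx I).d m m') p

/-- The horizontal differential. -/
noncomputable abbrev h (p : ℕ) (m : ℤ) : C U ((preCx I).X m) p →+ C U ((preCx I).X m) (p + 1) :=
  ((Cech.cx ((preCx I).X m) U).d p (p + 1)).hom

lemma h_h (p : ℕ) (m : ℤ) (x : C U ((preCx I).X m) p) : h U I (p + 1) m (h U I p m x) = 0 :=
  ConcreteCategory.congr_hom ((Cech.cx ((preCx I).X m) U).d_comp_d p (p + 1) (p + 1 + 1)) x

lemma v_v (p : ℕ) (m m' m'' : ℤ) (x : C U ((preCx I).X m) p) : v U I p m' m'' (v U I p m m' x) = 0 :=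
  mapHom_comp_eq_zero U _ _ ((preCx I).d_comp_d m m' m'') x

lemma v_h (p : ℕ) (m m' : ℤ) (x : C U ((preCx I).X m) p) :
    v U I (p + 1) m m' (h U I p m x) = h U I p m' (v U I p m m' x) :=
  mapHom_d U _ x

/-- `Zig x p m c`: a zigzag in the double complex from the section `x` of degree `n` to `c` in
Cech degree `p`. -/
inductive Zig : ((preCx I).X n).obj (op ⊤) → ∀ (p : ℕ) (m : ℤ), C U ((preCx I).X m) p → Prop
  | zero (x : ((preCx I).X n).obj (op ⊤)) : Zig x 0 n (aug U ((preCx I).X n) x)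
  | succ {x : ((preCx I).X n).obj (op ⊤)} {p : ℕ} {m m' : ℤ} (hm : m + 1 = m') (b : C U ((preCx I).X m) p) :
      Zig x p m' (v U I p m m' b) → Zig x (p + 1) m (h U I p m b)

variable {U I n}

lemma Zig.deg {x : ((preCx I).X n).obj (op ⊤)} {p : ℕ} {m : ℤ} {c : C U ((preCx I).X m) p}
    (hz : Zig U I n x p m c) : m + (p : ℤ) = n := by
  induction hz with
  | zero => simp
  | succ hm b _ ih => push_cast; lia

lemma Zig.h_eq_zero {x : ((preCx I).X n).obj (op ⊤)} {p : ℕ} {m : ℤ} {c : C U ((preCx I).X m) p}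
    (hz : Zig U I n x p m c) : h U I p m c = 0 := by
  cases hz with
  | zero => exact d_aug U _ x
  | succ hm b _ => exact h_h U I _ _ b

lemma Zig.v_eq_zero {x : ((preCx I).X n).obj (op ⊤)} (hx : ((preCx I).d n (n + 1)).app (op ⊤) x = 0)
    {p : ℕ} {m : ℤ} {c : C U ((preCx I).X m) p} (hz : Zig U I n x p m c) :
    v U I p m (m + 1) c = 0 := by
  cases hz with
  | zero => rw [mapHom_aug, hx, map_zero]
  | succ hm b hb =>
    subst hm
    rw [v_h]
    exact hb.h_eq_zero

lemma Zig.exists_pred {x : ((preCx I).X n).obj (op ⊤)} {p : ℕ} {m : ℤ} {c : C U ((preCx I).X m) (p + 1)}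
    (hz : Zig U I n x (p + 1) m c) : ∃ (m' : ℤ) (_ : m + 1 = m') (b : C U ((preCx I).X m) p),
      c = h U I p m b ∧ Zig U I n x p m' (v U I p m m' b) := by
  cases hz with
  | succ hm b hb => exact ⟨_, hm, b, rfl, hb⟩

lemma Zig.eq_aug {x : ((preCx I).X n).obj (op ⊤)} {c : C U ((preCx I).X n) 0}
    (hz : Zig U I n x 0 n c) : c = aug U ((preCx I).X n) x := by
  cases hz with
  | zero => rfl

lemma Zig.add {x : ((preCx I).X n).obj (op ⊤)} {p : ℕ} {m : ℤ} {c : C U ((preCx I).X m) p}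
    (hz : Zig U I n x p m c) : ∀ {y : ((preCx I).X n).obj (op ⊤)} {c' : C U ((preCx I).X m) p},
      Zig U I n y p m c' → Zig U I n (x + y) p m (c + c') := by
  induction hz with
  | zero =>
    intro y c' hy
    cases hy with
    | zero => rw [← map_add]; exact Zig.zero _
  | succ hm b _ ih =>
    intro y c' hy
    cases hy with
    | succ hm' b' hb' =>
      subst hm hm'
      rw [← map_add]
      exact Zig.succ rfl _ (by rw [map_add]; exact ih hb')

lemma Zig.neg {x : ((preCx I).X n).obj (op ⊤)} {p : ℕ} {m : ℤ} {c : C U ((preCx I).X m) p}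
    (hz : Zig U I n x p m c) : Zig U I n (-x) p m (-c) := by
  induction hz with
  | zero => rw [← map_neg]; exact Zig.zero _
  | succ hm b _ ih => rw [← map_neg]; exact Zig.succ hm _ (by rw [map_neg]; exact ih)

lemma zig_zero : ∀ (p : ℕ) (m : ℤ), m + (p : ℤ) = n → Zig U I n 0 p m 0
  | 0, m, hm => by
    obtain rfl : m = n := by simpa using hm
    simpa using Zig.zero (U := U) (I := I) (0 : ((preCx I).X m).obj (op ⊤))
  | p + 1, m, hm => by
    have := Zig.succ (U := U) (I := I) (n := n) (m := m) rfl (0 : C U ((preCx I).X m) p)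
      (by rw [map_zero]; exact zig_zero p (m + 1) (by push_cast at hm; lia))
    simpa using this

/-- A zigzag ending in a vertical boundary of a horizontal cycle starts at a boundary. -/
lemma Zig.exists_d_eq (hcov : iSup U = ⊤)
    (hI : ∀ (m : ℤ) (p : ℕ), IsZero ((Cech.cx ((preCx I).X m) U).homology (p + 1)))
    {x : ((preCx I).X n).obj (op ⊤)} {p : ℕ} {m : ℤ} {c : C U ((preCx I).X m) p}
    (hz : Zig U I n x p m c) : ∀ (m₀ : ℤ), m₀ + 1 = m → ∀ e : C U ((preCx I).X m₀) p,
      v U I p m₀ m e = c → h U I p m₀ e = 0 →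
        ∃ x₀ : ((preCx I).X (n - 1)).obj (op ⊤), ((preCx I).d (n - 1) n).app (op ⊤) x₀ = x := by
  induction hz with
  | zero =>
    intro m₀ hm₀ e he he'
    obtain rfl : m₀ = n - 1 := by lia
    obtain ⟨x₀, rfl⟩ := exists_aug_eq U hcov (I.X (n - 1)) e he'
    refine ⟨x₀, injective_aug U hcov (I.X n) ?_⟩
    exact (mapHom_aug U _ x₀).symm.trans he
  | @succ p m m' hm b _ ih =>
    intro m₀ hm₀ e he he'
    obtain ⟨f, rfl⟩ := (Cech.isZero_homology_succ_iff _ _ p).1 (hI m₀ p) e he'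
    refine ih m hm (b - v U I p m₀ m f) ?_ ?_
    · rw [map_sub, v_v, sub_zero]
    · rw [map_sub, ← v_h]
      exact sub_eq_zero.2 he.symm

/-- A zigzag whose end is a horizontal boundary of a vertical cycle plus a vertical boundary extends. -/
lemma Zig.extend {x : ((preCx I).X n).obj (op ⊤)} {p : ℕ} {m m₀ : ℤ} (hm₀ : m₀ + 1 = m)
    {e : C U ((preCx I).X m) p} (he : v U I p m (m + 1) e = 0) {f : C U ((preCx I).X m₀) (p + 1)}
    (hz : Zig U I n x (p + 1) m (h U I p m e + v U I (p + 1) m₀ m f)) :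
    Zig U I n x (p + 1 + 1) m₀ (h U I (p + 1) m₀ f) := by
  generalize hc : h U I p m e + v U I (p + 1) m₀ m f = c at hz
  cases hz with
  | succ hm b hb =>
    subst hm
    refine Zig.succ hm₀ f ?_
    have : v U I (p + 1) m₀ m f = h U I p m (b - e) := by
      rw [map_sub, ← hc]; abel
    rw [this]
    exact Zig.succ rfl (b - e) (by rw [map_sub, he, sub_zero]; exact hb)

end Complex

end Groth.Agent.CechSS14
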