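import Groth.Prelude.Def_HTor
import Groth.Prelude.Def_CohB1
import Groth.Agent.CechSS14.Zigzag
import Mathlib.LinearAlgebra.Isomorphisms

/-!
# The Cech filtration on the cohomology of sections of a complex of injective sheaves
-/

set_option autoImplicit false
set_option backward.isDefEq.respectTransparency false
set_option linter.style.haveILetI false
set_option linter.unusedVariables false

universe u

open CategoryTheory CategoryTheory.Limits Opposite TopologicalSpace
open Groth.Agent.SiteCoh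
open Groth.Agent.CohDer1.HyperPush (preCx)

namespace Groth.Agent.CechSS14

/-- A subquotient from an additive relation. -/
lemma isSubquotient_of_rel {R T N : Type u} [AddCommGroup R] [AddCommGroup T] [AddCommGroup N]
    [Module ℤ N]
    (f : R →+ N) (hf : Function.Surjective f) (g : R →+ T) (h : ∀ r, g r = 0 → f r = 0) :
    HTor.IsSubquotient ℤ N T := by
  let S : Submodule ℤ T := AddSubgroup.toIntSubmodule (f.ker.map g)
  let S' : Submodule ℤ T := AddSubgroup.toIntSubmodule g.range
  have hSS : S ≤ S' := fun x ⟨r, _, hr⟩ => ⟨r, hr⟩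
  refine ⟨S, S', hSS, ⟨?_⟩⟩
  let φ : R →+ (↥S' ⧸ Submodule.comap S'.subtype S) :=
    AddMonoidHom.mk' (fun r => Submodule.Quotient.mk ⟨g r, r, rfl⟩) fun a b => by
      rw [← Submodule.Quotient.mk_add]
      congr 1
      exact Subtype.ext (map_add g a b)
  have hφ : Function.Surjective φ := by
    intro y
    obtain ⟨⟨_, r, rfl⟩, rfl⟩ := Submodule.Quotient.mk_surjective _ y
    exact ⟨r, rfl⟩
  have hker : f.ker = φ.ker := by
    ext r
    rw [AddMonoidHom.mem_ker, AddMonoidHom.mem_ker]
    change f r = 0 ↔ Submodule.Quotient.mk _ = 0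
    rw [Submodule.Quotient.mk_eq_zero]
    change _ ↔ g r ∈ f.ker.map g
    constructor
    · intro hr; exact ⟨r, hr, rfl⟩
    · rintro ⟨r', hr', e⟩
      have := h (r - r') (by rw [map_sub, e, sub_self])
      rw [map_sub, show f r' = 0 from hr', sub_zero] at this
      exact this
  let e : N ≃+ (↥S' ⧸ Submodule.comap S'.subtype S) :=
    (QuotientAddGroup.quotientKerEquivOfSurjective f hf).symm.trans
      ((QuotientAddGroup.quotientAddEquivOfEq hker).trans
        (QuotientAddGroup.quotientKerEquivOfSurjective φ hφ))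
  exact e.toLinearEquiv fun c x => map_intCast_smul e ℤ ℤ c x

section Homology

variable {X : TopCat.{u}} (I : CochainComplex (CohTop.Ab X) ℤ) (m : ℤ)

/-- Sections of cycles map onto cohomology of sections. -/
lemma homologyπ_app_surjective (V : (Opens X)ᵒᵖ) :
    Function.Surjective (((preCx I).homologyπ m).app V) :=
  (AddCommGrpCat.epi_iff_surjective _).1
    (inferInstanceAs (Epi (((evaluation _ _).obj V).map ((preCx I).homologyπ m))))

lemma iCycles_app_injective (V : (Opens X)ᵒᵖ) : Function.Injective (((preCx I).iCycles m).app V) :=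
  (AddCommGrpCat.mono_iff_injective _).1
    (inferInstanceAs (Mono (((evaluation _ _).obj V).map ((preCx I).iCycles m))))

lemma iCycles_app_d (V : (Opens X)ᵒᵖ) (z : ((preCx I).cycles m).obj V) :
    ((preCx I).d m (m + 1)).app V (((preCx I).iCycles m).app V z) = 0 :=
  ConcreteCategory.congr_hom (congrArg (fun φ => φ.app V) ((preCx I).iCycles_d m (m + 1))) z

lemma exists_cycle (V : (Opens X)ᵒᵖ) (s : ((preCx I).X m).obj V)
    (hs : ((preCx I).d m (m + 1)).app V s = 0) : ∃ z, ((preCx I).iCycles m).app V z = s :=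
  have he : (ShortComplex.mk _ _ ((preCx I).iCycles_d m (m + 1))).Exact :=
    ShortComplex.exact_of_f_is_kernel _ ((preCx I).cyclesIsKernel m (m + 1) (by simp))
  (ShortComplex.ab_exact_iff _).1 (he.map ((evaluation _ _).obj V)) s hs

lemma exists_d_eq_of_homologyπ_eq_zero (m₀ : ℤ) (hm : m₀ + 1 = m) (V : (Opens X)ᵒᵖ)
    (z : ((preCx I).cycles m).obj V) (hz : ((preCx I).homologyπ m).app V z = 0) :
    ∃ f, ((preCx I).d m₀ m).app V f = ((preCx I).iCycles m).app V z := by
  have he : (ShortComplex.mk _ _ ((preCx I).toCycles_comp_homologyπ m₀ m)).Exact :=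
    ShortComplex.exact_of_g_is_cokernel _ ((preCx I).homologyIsCokernel m₀ m (by simp; lia))
  obtain ⟨f, hf⟩ := (ShortComplex.ab_exact_iff _).1 (he.map ((evaluation _ _).obj V)) z hz
  refine ⟨f, ?_⟩
  rw [← hf]
  exact (ConcreteCategory.congr_hom (congrArg (fun φ => φ.app V) ((preCx I).toCycles_i m₀ m)) f).symm

lemma homologyπ_eq_zero_of_d_eq (m₀ : ℤ) (hm : m₀ + 1 = m) (V : (Opens X)ᵒᵖ)
    (z : ((preCx I).cycles m).obj V) (f : ((preCx I).X m₀).obj V)
    (hf : ((preCx I).d m₀ m).app V f = ((preCx I).iCycles m).app V z) :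
    ((preCx I).homologyπ m).app V z = 0 := by
  have e : ((preCx I).toCycles m₀ m).app V f = z := iCycles_app_injective I m V
    ((ConcreteCategory.congr_hom (congrArg (fun φ => φ.app V) ((preCx I).toCycles_i m₀ m)) f).trans hf)
  rw [← e]
  exact ConcreteCategory.congr_hom (congrArg (fun φ => φ.app V) ((preCx I).toCycles_comp_homologyπ m₀ m)) f

end Homology

section Main

variable {X : TopCat.{u}} {ι : Type u} (U : ι → Opens X) (I : CochainComplex (CohTop.Ab X) ℤ) (n : ℤ)

/-- The presheaf of cohomology of sections. -/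
noncomputable abbrev h' (m : ℤ) : (Opens X)ᵒᵖ ⥤ AddCommGrpCat.{u} := (preCx I).homology m

/-- The class of a cycle on the whole space. -/
noncomputable abbrev cyc : ((preCx I).cycles n).obj (op ⊤) →+ (h' I n).obj (op ⊤) :=
  (((preCx I).homologyπ n).app (op ⊤)).hom

/-- The underlying cochain of a cycle on the whole space. -/
noncomputable abbrev inc : ((preCx I).cycles n).obj (op ⊤) →+ ((preCx I).X n).obj (op ⊤) :=
  (((preCx I).iCycles n).app (op ⊤)).hom

/-- Cycles which admit a zigzag of length `p`. -/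
noncomputable def deepCycles (p : ℕ) : AddSubgroup (((preCx I).cycles n).obj (op ⊤)) where
  carrier := {y | ∃ c : C U ((preCx I).X (n - p)) p, Zig U I n (inc I n y) p (n - p) c}
  zero_mem' := ⟨0, by rw [map_zero]; exact zig_zero p _ (by lia)⟩
  add_mem' := fun {a b} ⟨c, hc⟩ ⟨c', hc'⟩ => ⟨c + c', by rw [map_add]; exact hc.add hc'⟩
  neg_mem' := fun {a} ⟨c, hc⟩ => ⟨-c, by rw [map_neg]; exact hc.neg⟩

/-- The filtration. -/
noncomputable def fil (p : ℕ) : AddSubgroup ((h' I n).obj (op ⊤)) := (deepCycles U I n p).map (cyc I n)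

lemma mem_deepCycles {p : ℕ} {m : ℤ} {y : ((preCx I).cycles n).obj (op ⊤)} {c : C U ((preCx I).X m) p}
    (hz : Zig U I n (inc I n y) p m c) : y ∈ deepCycles U I n p := by
  obtain rfl : m = n - p := by have := hz.deg; lia
  exact ⟨c, hz⟩

lemma fil_succ_le (p : ℕ) : fil U I n (p + 1) ≤ fil U I n p := by
  rintro _ ⟨y, ⟨c, hc⟩, rfl⟩
  cases hc with
  | succ hm b hb => exact ⟨y, mem_deepCycles U I n hb, rfl⟩

lemma fil_zero : fil U I n 0 = ⊤ := by
  refine eq_top_iff.2 fun ξ _ => ?_
  obtain ⟨y, rfl⟩ := homologyπ_app_surjective I n (op ⊤) ξ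
  exact ⟨y, mem_deepCycles U I n (Zig.zero _), rfl⟩

lemma fil_eq_bot (hcov : iSup U = ⊤)
    (hI : ∀ (m : ℤ) (p : ℕ), IsZero ((Cech.cx ((preCx I).X m) U).homology (p + 1)))
    (N : ℕ) (hN : IsZero (I.X (n - N))) : fil U I n N = ⊥ := by
  refine eq_bot_iff.2 ?_
  rintro _ ⟨y, ⟨c, hc⟩, rfl⟩
  have h0 : IsZero ((preCx I).X (n - N)) := (sheafToPresheaf _ AddCommGrpCat.{u}).map_isZero hN
  have hc0 : c = 0 := Cech.ext _ U fun a =>
    (AddCommGrpCat.subsingleton_of_isZero (((evaluation _ _).obj (op (Cech.inter U a))).map_isZero h0)).elim _ _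
  obtain ⟨x₀, hx₀⟩ := hc.exists_d_eq hcov hI (n - N - 1) (by lia) 0 (by rw [map_zero, hc0]) (map_zero _)
  exact homologyπ_eq_zero_of_d_eq I n (n - 1) (by lia) (op ⊤) y x₀ hx₀

lemma map_le (i : ι) : U i ≤ Cech.inter U (fun _ : Fin 1 => i) :=
  leOfHom (Pi.lift fun _ => 𝟙 (U i))

lemma fil_one (ξ : (h' I n).obj (op ⊤)) :
    ξ ∈ fil U I n 1 ↔ ∀ i, (h' I n).map (homOfLE (le_top : U i ≤ ⊤)).op ξ = 0 := by
  constructor
  · rintro ⟨y, ⟨c, hc⟩, rfl⟩ i
    obtain ⟨m', hm, b, -, hb⟩ := hc.exists_pred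
    obtain rfl : n = m' := by lia
    have hvb := hb.eq_aug
    have h1 := congrArg (Cech.ev _ U (fun _ : Fin 1 => i)) hvb
    rw [ev_mapHom, ev_aug] at h1
    have h2 := congrArg (((preCx I).X n).map (homOfLE (map_le U i)).op) h1
    rw [← NatTrans.naturality_apply] at h2
    replace h2 := h2.trans (ConcreteCategory.congr_hom (((preCx I).X n).map_comp _ _) _).symm
    change (h' I n).map _ (((preCx I).homologyπ n).app _ y) = 0
    rw [← NatTrans.naturality_apply]
    refine homologyπ_eq_zero_of_d_eq I n (n - (0 + 1 : ℕ)) (by lia) _ _ _ (h2.trans ?_)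
    refine Eq.trans ?_ (NatTrans.naturality_apply ((preCx I).iCycles n)
      (homOfLE (le_top : U i ≤ ⊤)).op y).symm
    exact congrArg (fun k => ((preCx I).X n).map k _) (Subsingleton.elim _ _)
  · intro h
    obtain ⟨y, rfl⟩ := homologyπ_app_surjective I n (op ⊤) ξ
    have hb : ∀ a : Fin 1 → ι, ∃ f, ((preCx I).d (n - (1 : ℕ)) n).app (op (Cech.inter U a)) f =
        ((preCx I).X n).map (homOfLE le_top).op (inc I n y) := by
      intro a
      have hle : Cech.inter U a ≤ U (a 0) := leOfHom (Pi.π (fun k => U (a k)) 0)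
      have h1 := congrArg ((h' I n).map (homOfLE hle).op) (h (a 0))
      rw [map_zero, ← ConcreteCategory.comp_apply, ← (h' I n).map_comp, ← op_comp, homOfLE_comp,
        ← NatTrans.naturality_apply] at h1
      obtain ⟨f, hf⟩ := exists_d_eq_of_homologyπ_eq_zero I n (n - (1 : ℕ)) (by lia) _ _ h1
      exact ⟨f, hf.trans (NatTrans.naturality_apply _ _ _)⟩
    choose f hf using hb
    have hv : v U I 0 (n - (1 : ℕ)) n (Cech.mk _ U f) = aug U _ (inc I n y) :=
      Cech.ext _ U fun a => by rw [ev_mapHom, Cech.ev_mk, ev_aug]; exact hf a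
    refine ⟨y, mem_deepCycles U I n (Zig.succ (m := n - (1 : ℕ)) (m' := n) (by lia) (Cech.mk _ U f) ?_), rfl⟩
    rw [hv]
    exact Zig.zero _

/-- Pairs of a cycle and a lifted end of a zigzag from it. -/
noncomputable def rel (p : ℕ) :
    AddSubgroup (((preCx I).cycles n).obj (op ⊤) × C U ((preCx I).cycles (n - p)) p) where
  carrier := {r | Zig U I n (inc I n r.1) p (n - p) (mapHom U ((preCx I).iCycles (n - p)) p r.2)}
  zero_mem' := by
    change Zig U I n (inc I n 0) p (n - p) (mapHom U _ p 0)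
    rw [map_zero, map_zero]
    exact zig_zero p _ (by lia)
  add_mem' := fun {a b} (ha : Zig _ _ _ _ _ _ _) (hb : Zig _ _ _ _ _ _ _) => by
    change Zig U I n (inc I n (a.1 + b.1)) p (n - p) (mapHom U _ p (a.2 + b.2))
    rw [map_add, map_add]
    exact ha.add hb
  neg_mem' := fun {a} (ha : Zig _ _ _ _ _ _ _) => by
    change Zig U I n (inc I n (-a.1)) p (n - p) (mapHom U _ p (-a.2))
    rw [map_neg, map_neg]
    exact ha.neg

/-- A zigzag whose class vanishes can be extended. -/
lemma mem_deepCycles_succ : ∀ {p : ℕ} {m : ℤ} {y : ((preCx I).cycles n).obj (op ⊤)}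
    {c : C U ((preCx I).cycles m) p}, Zig U I n (inc I n y) p m (mapHom U ((preCx I).iCycles m) p c) →
    ∀ w' : C U (h' I m) ((ComplexShape.up ℕ).prev p),
      (Cech.cx (h' I m) U).d ((ComplexShape.up ℕ).prev p) p w' = mapHom U ((preCx I).homologyπ m) p c →
      y ∈ deepCycles U I n (p + 1)
  | 0, m, y, c, hz, w', hd => by
    rw [(Cech.cx (h' I m) U).shape _ _ (by simp)] at hd
    choose e he using fun a : Fin 1 → ι => exists_d_eq_of_homologyπ_eq_zero I m (m - 1) (by lia)
      (op (Cech.inter U a)) (Cech.ev _ U a c)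
      ((ev_mapHom U _ _ a).symm.trans ((congrArg (Cech.ev _ U a) hd.symm).trans (map_zero _)))
    refine mem_deepCycles U I n (Zig.succ (m := m - 1) (m' := m) (by lia) (Cech.mk _ U e) ?_)
    convert hz using 1
    exact Cech.ext _ U fun a => by rw [ev_mapHom, Cech.ev_mk, he, ev_mapHom]
  | p + 1, m, y, c, hz, w', hd => by
    revert w' hd
    rw [show (ComplexShape.up ℕ).prev (p + 1) = p by simp]
    intro w' hd
    choose z' hz' using fun a : Fin (p + 1) → ι =>
      homologyπ_app_surjective I m (op (Cech.inter U a)) (Cech.ev _ U a w')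
    let z := Cech.mk ((preCx I).cycles m) U z'
    have hπz : mapHom U ((preCx I).homologyπ m) p z = w' :=
      Cech.ext _ U fun a => by rw [ev_mapHom, Cech.ev_mk, hz']
    let δ := c - (Cech.cx ((preCx I).cycles m) U).d p (p + 1) z
    have hδ : mapHom U ((preCx I).homologyπ m) (p + 1) δ = 0 := by
      rw [map_sub, mapHom_d, hπz, hd, sub_self]
    choose f' hf' using fun a : Fin (p + 1 + 1) → ι => exists_d_eq_of_homologyπ_eq_zero I m (m - 1) (by lia)
      (op (Cech.inter U a)) (Cech.ev _ U a δ)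
      ((ev_mapHom U _ δ a).symm.trans ((congrArg (Cech.ev _ U a) hδ).trans (map_zero _)))
    have hv : v U I (p + 1) (m - 1) m (Cech.mk _ U f') = mapHom U ((preCx I).iCycles m) (p + 1) δ :=
      Cech.ext _ U fun a => by rw [ev_mapHom, Cech.ev_mk, hf', ev_mapHom]
    have hve : v U I p m (m + 1) (mapHom U ((preCx I).iCycles m) p z) = 0 :=
      mapHom_comp_eq_zero U _ _ ((preCx I).iCycles_d m (m + 1)) z
    refine mem_deepCycles U I n (Zig.extend (m₀ := m - 1) (by lia) hve (f := Cech.mk _ U f') ?_)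
    convert hz using 1
    rw [hv, map_sub, mapHom_d]
    exact add_sub_cancel _ _

/-- The graded pieces are subquotients of the Cech cohomology of the cohomology presheaves. -/
theorem isSubquotient_gr (p : ℕ) :
    HTor.IsSubquotient ℤ (HTor.grDesc (fun q => AddSubgroup.toIntSubmodule (fil U I n q)) p)
      ((Cech.cx (h' I (n - p)) U).homology p) := by
  let m := n - (p : ℤ)
  let π' := mapHom U ((preCx I).homologyπ m) p
  let w : AddCommGrpCat.of (rel U I n p) ⟶ (Cech.cx (h' I m) U).X p :=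
    AddCommGrpCat.ofHom (π'.comp ((AddMonoidHom.snd _ _).comp (rel U I n p).subtype))
  have hw : w ≫ (Cech.cx (h' I m) U).d p (p + 1) = 0 := by
    ext r
    change (Cech.cx (h' I m) U).d p (p + 1) (mapHom U ((preCx I).homologyπ m) p r.1.2) = 0
    have hr : Zig U I n (inc I n r.1.1) p m (mapHom U ((preCx I).iCycles m) p r.1.2) := r.2
    have h0 : (Cech.cx ((preCx I).cycles m) U).d p (p + 1) r.1.2 = 0 :=
      mapHom_injective U _ (fun V => iCycles_app_injective I m V) (p + 1)
        ((mapHom_d U _ _).trans (hr.h_eq_zero.trans (map_zero _).symm))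
    rw [← mapHom_d, h0, map_zero]
  let g : rel U I n p →+ (Cech.cx (h' I m) U).homology p :=
    ((Cech.cx (h' I m) U).liftCycles w (p + 1) (by simp) hw ≫ (Cech.cx (h' I m) U).homologyπ p).hom
  let f₀ : rel U I n p →+ ↥(AddSubgroup.toIntSubmodule (fil U I n p)) :=
    AddMonoidHom.mk' (fun r => ⟨cyc I n r.1.1, r.1.1, mem_deepCycles U I n r.2, rfl⟩)
      fun a b => Subtype.ext (map_add _ _ _)
  let f := ((Submodule.mkQ (Submodule.comap (AddSubgroup.toIntSubmodule (fil U I n p)).subtype
    (AddSubgroup.toIntSubmodule (fil U I n (p + 1))))).toAddMonoidHom).comp f₀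
  refine isSubquotient_of_rel f ?_ g ?_
  · intro ξ
    obtain ⟨⟨_, y, ⟨c, hc⟩, rfl⟩, rfl⟩ := Submodule.mkQ_surjective _ ξ
    have hvc := hc.v_eq_zero (iCycles_app_d I n (op ⊤) y)
    choose z hz using fun a : Fin (p + 1) → ι => exists_cycle I (n - p) (op (Cech.inter U a))
      (Cech.ev _ U a c) ((ev_mapHom U _ c a).symm.trans ((congrArg (Cech.ev _ U a) hvc).trans (map_zero _)))
    have e : mapHom U ((preCx I).iCycles (n - p)) p (Cech.mk _ U z) = c :=
      Cech.ext _ U fun a => by rw [ev_mapHom, Cech.ev_mk, hz]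
    exact ⟨⟨(y, Cech.mk _ U z), show Zig _ _ _ _ _ _ _ from e.symm ▸ hc⟩, rfl⟩
  · intro r hr
    refine (Submodule.Quotient.mk_eq_zero _).2 ?_
    have hz : Zig U I n (inc I n r.1.1) p m (mapHom U ((preCx I).iCycles m) p r.1.2) := r.2
    change cyc I n r.1.1 ∈ fil U I n (p + 1)
    have he : (ShortComplex.mk _ _ ((Cech.cx (h' I m) U).toCycles_comp_homologyπ
        ((ComplexShape.up ℕ).prev p) p)).Exact :=
      ShortComplex.exact_of_g_is_cokernel _
        ((Cech.cx (h' I m) U).homologyIsCokernel ((ComplexShape.up ℕ).prev p) p rfl)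
    obtain ⟨w', hw'⟩ := (ShortComplex.ab_exact_iff _).1 he _ hr
    refine ⟨r.1.1, mem_deepCycles_succ U I n hz w' ?_, rfl⟩
    exact ((ConcreteCategory.congr_hom ((Cech.cx (h' I m) U).toCycles_i _ p) w').symm.trans
      (congrArg ((Cech.cx (h' I m) U).iCycles p) hw')).trans
        (ConcreteCategory.congr_hom ((Cech.cx (h' I m) U).liftCycles_i w (p + 1) _ hw) r)

end Main

end Groth.Agent.CechSS14
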