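import Groth.Prelude.Def_CechTot
import Groth.Agent.CechSS14.Zigzag
import Groth.Agent.CommAlg4.TotalQuasi
import Groth.Agent.DCat.Acyclic
import Groth.Agent.SiteCoh.Derived
import Mathlib.Algebra.Homology.TotalComplexSymmetry
import Mathlib.Algebra.Homology.Factorizations.CM5a

/-!
# Cech hypercohomology of complexes with acyclic terms
-/

set_option autoImplicit false
set_option backward.isDefEq.respectTransparency false
set_option backward.isDefEq.respectTransparency.types false
set_option linter.style.haveILetI false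

universe v u

open CategoryTheory CategoryTheory.Limits Opposite HomologicalComplex

namespace Groth.Agent.CechSS14

local notation "up'" => ComplexShape.up ℤ

section Bicomplex

variable {A : Type u} [Category.{v} A] [Abelian A] {K L : HomologicalComplex₂ A up' up'} (φ : K ⟶ L)

/-- A map of complexes of complexes is a quasi-isomorphism if it is one on every line. -/
theorem quasiIso_of_eval
    (h : ∀ q : ℤ, QuasiIso (((HomologicalComplex.eval A up' q).mapHomologicalComplex up').map φ)) :
    QuasiIso φ := by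
  refine ⟨fun i => ?_⟩
  rw [quasiIsoAt_iff_isIso_homologyMap]
  haveI : ∀ q, IsIso ((homologyMap φ i).f q) := fun q => by
    haveI := h q
    haveI : IsIso (ShortComplex.homologyMap ((HomologicalComplex.eval A up' q).mapShortComplex.map
        ((shortComplexFunctor (HomologicalComplex A up') up' i).map φ))) :=
      (quasiIsoAt_iff_isIso_homologyMap
        (((HomologicalComplex.eval A up' q).mapHomologicalComplex up').map φ) i).1 inferInstance
    exact IsIso.of_isIso_fac_left (ShortComplex.mapHomologyIso_hom_naturality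
      ((shortComplexFunctor (HomologicalComplex A up') up' i).map φ) (HomologicalComplex.eval A up' q)).symm
  exact HomologicalComplex.Hom.isIso_of_components _

/-- The flipped map. -/
noncomputable abbrev flipMap : K.flip ⟶ L.flip := (HomologicalComplex₂.flipFunctor A up' up').map φ

variable [K.HasTotal up'] [L.HasTotal up'] [K.flip.HasTotal up'] [L.flip.HasTotal up']

lemma totalFlipIso_naturality :
    (K.totalFlipIso up').hom ≫ HomologicalComplex₂.total.map φ up' =
      HomologicalComplex₂.total.map (flipMap φ) up' ≫ (L.totalFlipIso up').hom := by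
  ext n j i h
  simp [Linear.units_smul_comp, Linear.comp_units_smul]

/-- A map of bicomplexes which is a quasi-isomorphism in the inner direction, bounded below. -/
theorem quasiIso_total_map_of_inner {a b : ℤ} (hK : CommAlg4.TotalQuasi.Quad K a b)
    (hL : CommAlg4.TotalQuasi.Quad L a b) (h : ∀ p, QuasiIso (φ.f p)) :
    QuasiIso (HomologicalComplex₂.total.map φ up') := by
  let ψ := flipMap φ
  haveI : QuasiIso ψ := quasiIso_of_eval ψ h
  haveI : QuasiIso (HomologicalComplex₂.total.map ψ up') :=
    CommAlg4.TotalQuasi.quasiIso_total_map ψ (a := b) (b := a)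
      (fun p q hpq => hK q p hpq.symm) (fun p q hpq => hL q p hpq.symm)
  have e : HomologicalComplex₂.total.map φ up' = (K.totalFlipIso up').inv ≫
      HomologicalComplex₂.total.map ψ up' ≫ (L.totalFlipIso up').hom := by
    rw [← totalFlipIso_naturality, Iso.inv_hom_id_assoc]
  rw [e]
  infer_instance

end Bicomplex

section SingleColumn

variable {A : Type u} [Category.{v} A] [Abelian A] (M : CochainComplex A ℤ)

/-- The bicomplex concentrated in inner degree zero. -/
noncomputable abbrev col : HomologicalComplex₂ A up' up' :=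
  ((HomologicalComplex.single A up' 0).mapHomologicalComplex up').obj M

lemma isZero_col (p q : ℤ) (hq : q ≠ 0) : IsZero (((col M).X p).X q) :=
  isZero_single_obj_X up' 0 (M.X p) q hq

variable [(col M).HasTotal up']

/-- The summand inclusion in the total complex of a single column. -/
noncomputable def colι (n : ℤ) : M.X n ⟶ ((col M).total up').X n :=
  (singleObjXSelf up' 0 (M.X n)).inv ≫ (col M).ιTotal up' n 0 n (add_zero n)

lemma isIso_colι (n : ℤ) : IsIso (colι M n) := by
  refine ⟨(col M).totalDesc fun i j h => if hj : j = 0 then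
    (singleObjXIsoOfEq up' 0 (M.X i) j hj).hom ≫ (M.XIsoOfEq (show i = n by subst hj; simpa using h)).hom
    else 0, ?_, ?_⟩
  · simp [colι, HomologicalComplex.singleObjXSelf]
  · refine HomologicalComplex₂.total.hom_ext up' fun i j h => ?_
    by_cases hj : j = 0
    · subst hj
      obtain rfl : i = n := by simpa using h
      simp [colι, HomologicalComplex.singleObjXSelf]
    · exact (isZero_col M i j hj).eq_of_src _ _

lemma colι_d (n : ℤ) : colι M n ≫ ((col M).total up').d n (n + 1) = M.d n (n + 1) ≫ colι M (n + 1) := by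
  rw [colι, colι, Category.assoc, HomologicalComplex₂.total_d, Preadditive.comp_add,
    HomologicalComplex₂.ι_D₁, HomologicalComplex₂.ι_D₂,
    (col M).d₁_eq up' (i₁' := n + 1) rfl 0 (n + 1) (show n + 1 + 0 = n + 1 by omega),
    (col M).d₂_eq up' n (i₂ := 0) (i₂' := 1) (show (0 : ℤ) + 1 = 1 by norm_num) (n + 1) rfl,
    show ((col M).X n).d 0 1 = 0 from (isZero_col M n 1 one_ne_zero).eq_of_tgt _ _,
    zero_comp, smul_zero, add_zero, show ComplexShape.ε₁ up' up' up' (n, (0 : ℤ)) = 1 from rfl, one_smul]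
  simp [single_map_f_self]

/-- The total complex of a single column. -/
noncomputable def totColIso : M ≅ (col M).total up' :=
  haveI := isIso_colι M
  HomologicalComplex.Hom.isoOfComponents (fun n => asIso (colι M n)) fun i j hij => by
    obtain rfl : i + 1 = j := hij
    exact colι_d M i

end SingleColumn

section Cech

open TopologicalSpace Groth.Agent.SiteCoh
open Groth.Agent.CohDer1.HyperPush (preCx)

variable {X : TopCat.{u}} {ι : Type u} (U : ι → Opens X)

lemma hasTotal_col (M : CochainComplex AddCommGrpCat.{u} ℤ) : (col M).HasTotal up' := inferInstance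

/-- The complex of global sections. -/
noncomputable abbrev secTop (P : CochainComplex ((Opens X)ᵒᵖ ⥤ AddCommGrpCat.{u}) ℤ) :
    CochainComplex AddCommGrpCat.{u} ℤ :=
  (((evaluation _ AddCommGrpCat.{u}).obj (op (⊤ : Opens X))).mapHomologicalComplex up').obj P

/-- Cechcomplex indexed by the integers. -/
noncomputable abbrev zcx (P : (Opens X)ᵒᵖ ⥤ AddCommGrpCat.{u}) : CochainComplex AddCommGrpCat.{u} ℤ :=
  (Cech.cx P U).extend ComplexShape.embeddingUpNat

lemma cechMap_f_apply {P Q : (Opens X)ᵒᵖ ⥤ AddCommGrpCat.{u}} (f : P ⟶ Q) (p : ℕ) (x : C U P p) :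
    ((cechComplexFunctor U).map f).f p x = Cech.map U f x := by
  refine Cech.ext Q U fun a => ?_
  rw [Cech.ev_map]
  simp [Cech.ev, cechComplexFunctor, FormalCoproduct.cochainComplexFunctor]
  exact ConcreteCategory.congr_hom (Limits.Pi.map_π _ a) x

/-- The augmentation in degree zero. -/
noncomputable def augZ (P : (Opens X)ᵒᵖ ⥤ AddCommGrpCat.{u}) : P.obj (op ⊤) ⟶ (zcx U P).X 0 :=
  AddCommGrpCat.ofHom (aug U P) ≫ ((Cech.cx P U).extendXIso ComplexShape.embeddingUpNat (i := 0) (i' := (0 : ℤ)) rfl).inv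

lemma augZ_d (P : (Opens X)ᵒᵖ ⥤ AddCommGrpCat.{u}) : augZ U P ≫ (zcx U P).d 0 1 = 0 := by
  rw [augZ, (Cech.cx P U).extend_d_eq ComplexShape.embeddingUpNat (i := 0) (j := 1) (i' := (0 : ℤ)) (j' := (1 : ℤ)) rfl rfl,
    Category.assoc, Iso.inv_hom_id_assoc, ← Category.assoc]
  have : AddCommGrpCat.ofHom (aug U P) ≫ (Cech.cx P U).d 0 1 = 0 := by
    ext x
    exact d_aug U P x
  rw [this, zero_comp]

/-- The augmentation. -/
noncomputable def augCx (P : (Opens X)ᵒᵖ ⥤ AddCommGrpCat.{u}) :
    (HomologicalComplex.single AddCommGrpCat.{u} up' 0).obj (P.obj (op ⊤)) ⟶ zcx U P :=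
  mkHomFromSingle (augZ U P) fun j hj => by
    obtain rfl : j = 1 := by simpa using hj.symm
    exact augZ_d U P

lemma augCx_natural {P Q : (Opens X)ᵒᵖ ⥤ AddCommGrpCat.{u}} (f : P ⟶ Q) :
    augCx U P ≫ HomologicalComplex.extendMap ((cechComplexFunctor U).map f) ComplexShape.embeddingUpNat =
      (HomologicalComplex.single AddCommGrpCat.{u} up' 0).map (f.app (op ⊤)) ≫ augCx U Q := by
  refine from_single_hom_ext ?_
  rw [HomologicalComplex.comp_f, HomologicalComplex.comp_f, single_map_f_self, augCx, augCx,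
    mkHomFromSingle_f, mkHomFromSingle_f, augZ, augZ,
    extendMap_f _ ComplexShape.embeddingUpNat (i := 0) (i' := (0 : ℤ)) rfl]
  simp only [Category.assoc, Iso.inv_hom_id_assoc]
  congr 1
  rw [← Category.assoc, ← Category.assoc]
  congr 1
  ext x
  exact (cechMap_f_apply U f 0 (aug U P x)).trans (mapHom_aug U f x)

/-- The augmentation of the Cech double complex. -/
noncomputable def augTot (P : CochainComplex ((Opens X)ᵒᵖ ⥤ AddCommGrpCat.{u}) ℤ) :
    col (secTop P) ⟶ CechTot.cech₂ U P where
  f q := augCx U (P.X q)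
  comm' i j _ := augCx_natural U (P.d i j)

lemma quasiIso_augCx (hcov : iSup U = ⊤) (F : CohTop.Ab X)
    (hF : ∀ p : ℕ, IsZero ((Cech.cx F.obj U).homology (p + 1))) : QuasiIso (augCx U F.obj) := by
  refine ⟨fun i => ?_⟩
  by_cases hi : i = 0
  · subst hi
    rw [quasiIsoAt_iff' _ (-1) 0 1 (by simp) (by simp), ShortComplex.quasiIso_iff_of_zeros]
    rotate_left
    · exact (isZero_single_obj_X up' 0 (F.obj.obj (op ⊤)) (-1) (by decide)).eq_of_src _ _
    · exact (isZero_single_obj_X up' 0 (F.obj.obj (op ⊤)) 1 (by decide)).eq_of_tgt _ _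
    · exact (isZero_extend_X _ ComplexShape.embeddingUpNat _ fun k => by simp).eq_of_src _ _
    have hmono : Mono ((augCx U F.obj).f 0) := by
      rw [augCx, mkHomFromSingle_f, augZ]
      haveI : Mono (AddCommGrpCat.ofHom (aug U F.obj)) :=
        (AddCommGrpCat.mono_iff_injective _).2 (injective_aug U hcov F)
      infer_instance
    refine ⟨(ShortComplex.ab_exact_iff _).2 fun x hx => ?_, hmono⟩
    change (zcx U F.obj).X 0 at x
    change (zcx U F.obj).d 0 1 x = 0 at hx
    let e := ((Cech.cx F.obj U).extendXIso ComplexShape.embeddingUpNat (i := 0) (i' := (0 : ℤ)) rfl)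
    rw [(Cech.cx F.obj U).extend_d_eq ComplexShape.embeddingUpNat (i := 0) (j := 1) (i' := (0 : ℤ)) (j' := (1 : ℤ)) rfl rfl] at hx
    have h0 : (Cech.cx F.obj U).d 0 1 (e.hom x) = 0 :=
      ((AddCommGrpCat.mono_iff_injective _).1 inferInstance) (hx.trans (map_zero _).symm)
    obtain ⟨s, hs⟩ := exists_aug_eq U hcov F (e.hom x) h0
    refine ⟨(singleObjXSelf up' 0 (F.obj.obj (op ⊤))).inv s, ?_⟩
    change (augCx U F.obj).f 0 _ = x
    rw [augCx, mkHomFromSingle_f, ← ConcreteCategory.comp_apply, Iso.inv_hom_id_assoc]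
    change e.inv (aug U F.obj s) = x
    rw [hs, Iso.hom_inv_id_apply]
  · have h1 : ((HomologicalComplex.single AddCommGrpCat.{u} up' 0).obj (F.obj.obj (op ⊤))).ExactAt i :=
      exactAt_single_obj up' 0 _ i hi
    rw [quasiIsoAt_iff_exactAt _ _ h1]
    by_cases hneg : ∃ k : ℕ, (k : ℤ) = i
    · obtain ⟨k, rfl⟩ := hneg
      obtain ⟨p, rfl⟩ : ∃ p, k = p + 1 := ⟨k - 1, by omega⟩
      exact (extend_exactAt_iff _ ComplexShape.embeddingUpNat (j := p + 1) rfl).2
        ((exactAt_iff_isZero_homology _ _).2 (hF p))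
    · exact extend_exactAt _ ComplexShape.embeddingUpNat i fun k hk => hneg ⟨k, hk⟩

lemma quad_cech₂ (P : CochainComplex ((Opens X)ᵒᵖ ⥤ AddCommGrpCat.{u}) ℤ) (a : ℤ)
    (hP : ∀ i, i < a → IsZero (P.X i)) : CommAlg4.TotalQuasi.Quad (CechTot.cech₂ U P) a 0 := by
  rintro p q (hp | hq)
  · exact (HomologicalComplex.eval _ up' q).map_isZero
      ((cechComplexFunctor U ⋙ ComplexShape.embeddingUpNat.extendFunctor AddCommGrpCat.{u}).map_isZero (hP p hp))
  · exact isZero_extend_X _ ComplexShape.embeddingUpNat _ fun k hk => by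
      simp at hk; omega

lemma quad_col (M : CochainComplex AddCommGrpCat.{u} ℤ) (a : ℤ) (hM : ∀ i, i < a → IsZero (M.X i)) :
    CommAlg4.TotalQuasi.Quad (col M) a 0 := by
  rintro p q (hp | hq)
  · exact (HomologicalComplex.eval _ up' q).map_isZero ((HomologicalComplex.single AddCommGrpCat.{u} up' 0).map_isZero (hM p hp))
  · exact isZero_col M p q (ne_of_lt hq)

/-- The Cech hypercohomology of a bounded below complex of injectives is the cohomology of its sections. -/
theorem nonempty_hyperH_iso (hcov : iSup U = ⊤) (I : CochainComplex (CohTop.Ab X) ℤ) (a : ℤ)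
    (ha : ∀ i, i < a → IsZero (I.X i))
    (hI : ∀ (m : ℤ) (p : ℕ), IsZero ((Cech.cx (I.X m).obj U).homology (p + 1))) (n : ℤ) :
    Nonempty ((secTop (preCx I)).homology n ≅ CechTot.hyperH U (preCx I) n) := by
  have hP : ∀ i, i < a → IsZero ((preCx I).X i) := fun i hi =>
    (sheafToPresheaf _ AddCommGrpCat.{u}).map_isZero (ha i hi)
  haveI := quasiIso_total_map_of_inner (augTot U (preCx I))
    (quad_col _ a fun i hi => ((evaluation (Opens X)ᵒᵖ AddCommGrpCat.{u}).obj (op ⊤)).map_isZero (hP i hi)) (quad_cech₂ U _ a hP)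
    (fun q => quasiIso_augCx U hcov (I.X q) (hI q))
  exact ⟨(homologyFunctor _ up' n).mapIso (totColIso (secTop (preCx I))) ≪≫
    isoOfQuasiIsoAt (HomologicalComplex₂.total.map (augTot U (preCx I)) up') n⟩

end Cech

section Acyclic

open TopologicalSpace Groth.Agent.SiteCoh
open Groth.Agent.CohDer1.HyperPush (preCx)

variable {X : TopCat.{u}} {ι : Type u} (U : ι → Opens X)

/-- The functor of cochains in a given degree. -/
noncomputable abbrev cochains (p : ℕ) : CohTop.Ab X ⥤ AddCommGrpCat.{u} :=
  sheafToPresheaf _ AddCommGrpCat.{u} ⋙ cechComplexFunctor U ⋙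
    HomologicalComplex.eval AddCommGrpCat.{u} (ComplexShape.up ℕ) p

instance additive_cochains (p : ℕ) : (cochains U p).Additive where
  map_add {F G f g} := by
    ext x
    change ((cechComplexFunctor U).map (f + g).hom).f p x =
      ((cechComplexFunctor U).map f.hom).f p x + ((cechComplexFunctor U).map g.hom).f p x
    rw [cechMap_f_apply, cechMap_f_apply, cechMap_f_apply]
    exact Cech.ext _ U fun a => by rw [Cech.ev_map, map_add, Cech.ev_map, Cech.ev_map]; rfl

lemma acy_sectionsAt (F : CohTop.Ab X) (V : Opens X) (h : ∀ q : ℕ, Subsingleton (CohTop.HU F (q + 1) V)) :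
    DCat.Acyclic.Acy (sectionsAt (Opens.grothendieckTopology X) V) F := by
  intro i hi
  obtain ⟨q, rfl⟩ : ∃ q, i = q + 1 := ⟨i - 1, by omega⟩
  haveI : Subsingleton (((evaluation _ AddCommGrpCat.{u}).obj (op V)).obj
      ((Sheaf.cohomologyPresheafFunctor (Opens.grothendieckTopology X) (q + 1)).obj F)) := h q
  exact (AddCommGrpCat.isZero_of_subsingleton
    (((evaluation _ AddCommGrpCat.{u}).obj (op V)).obj
      ((Sheaf.cohomologyPresheafFunctor (Opens.grothendieckTopology X) (q + 1)).obj F))).of_iso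
    ((rightDerivedCompExactIso (sheafToPresheaf (Opens.grothendieckTopology X) AddCommGrpCat.{u})
      ((evaluation _ AddCommGrpCat.{u}).obj (op V)) (q + 1)).app F ≪≫
      ((evaluation _ AddCommGrpCat.{u}).obj (op V)).mapIso
        ((sectionsDerivedIso (Opens.grothendieckTopology X) (q + 1)).app F))

/-- Cochains of a bounded below exact complex of acyclic sheaves are exact. -/
lemma acyclic_cochains (C : CochainComplex (CohTop.Ab X) ℤ) (b : ℤ) [C.IsStrictlyGE b] (hC : C.Acyclic)
    (p : ℕ) (hX : ∀ (c : Fin (p + 1) → ι) m, DCat.Acyclic.Acy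
      (sectionsAt (Opens.grothendieckTopology X) (Cech.inter U c)) (C.X m)) :
    (((cochains U p).mapHomologicalComplex up').obj C).Acyclic := by
  intro j
  rw [exactAt_iff' _ (j - 1) j (j + 1) (by simp) (by simp), ShortComplex.ab_exact_iff]
  intro x hx
  change Cech.cx (C.X j).obj U |>.X p at x
  have hV : ∀ c : Fin (p + 1) → ι, ∃ y, (C.d (j - 1) j).hom.app (op (Cech.inter U c)) y =
      Cech.ev (C.X j).obj U c x := fun c => by
    have he := DCat.Acyclic.acyclic_map_boundedBelow
      (F := sectionsAt (Opens.grothendieckTopology X) (Cech.inter U c)) C b hC (hX c) j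
    rw [exactAt_iff' _ (j - 1) j (j + 1) (by simp) (by simp), ShortComplex.ab_exact_iff] at he
    exact he _ ((Cech.ev_map U (C.d j (j + 1)).hom x c).symm.trans
      ((congrArg (Cech.ev (C.X (j + 1)).obj U c)
        ((cechMap_f_apply U (C.d j (j + 1)).hom p x).symm.trans hx)).trans (map_zero _)))
  choose y hy using hV
  exact ⟨Cech.mk (C.X (j - 1)).obj U y, Cech.ext _ U fun c =>
    (congrArg (Cech.ev (C.X j).obj U c) (cechMap_f_apply U (C.d (j - 1) j).hom p _)).trans <|
      (Cech.ev_map U (C.d (j - 1) j).hom _ c).trans ((congrArg _ (Cech.ev_mk ..)).trans (hy c))⟩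

lemma quasiIso_cochains {K L : CochainComplex (CohTop.Ab X) ℤ} (φ : K ⟶ L) [QuasiIso φ] (a : ℤ)
    [K.IsStrictlyGE a] [L.IsStrictlyGE a] (p : ℕ)
    (hK : ∀ (c : Fin (p + 1) → ι) m, DCat.Acyclic.Acy
      (sectionsAt (Opens.grothendieckTopology X) (Cech.inter U c)) (K.X m))
    (hL : ∀ (c : Fin (p + 1) → ι) m, DCat.Acyclic.Acy
      (sectionsAt (Opens.grothendieckTopology X) (Cech.inter U c)) (L.X m)) :
    QuasiIso (((cochains U p).mapHomologicalComplex up').map φ) := by
  letI := HasDerivedCategory.standard (CohTop.Ab X)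
  letI := HasDerivedCategory.standard AddCommGrpCat.{u}
  haveI : (CochainComplex.mappingCone φ).IsStrictlyGE (a - 1) := by
    rw [CochainComplex.isStrictlyGE_iff]
    intro j hj
    rw [CochainComplex.mappingCone.isZero_X_iff]
    exact ⟨CochainComplex.isZero_of_isStrictlyGE _ a _ (by omega),
      CochainComplex.isZero_of_isStrictlyGE _ a _ (by omega)⟩
  rw [← DerivedCategory.isIso_Q_map_iff_quasiIso]
  exact DCat.Acyclic.isIso_Q_map_map φ fun hc => acyclic_cochains U _ (a - 1) hc p fun c m =>
    DCat.Acyclic.acy_mappingCone_X φ (hK c) (hL c) m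

/-- Cech hypercohomology does not see quasi-isomorphisms between complexes of acyclic sheaves. -/
theorem quasiIso_tot_map {K L : CochainComplex (CohTop.Ab X) ℤ} (φ : K ⟶ L) [QuasiIso φ] (a : ℤ)
    [K.IsStrictlyGE a] [L.IsStrictlyGE a]
    (hK : ∀ (p : ℕ) (c : Fin (p + 1) → ι) m, DCat.Acyclic.Acy
      (sectionsAt (Opens.grothendieckTopology X) (Cech.inter U c)) (K.X m))
    (hL : ∀ (p : ℕ) (c : Fin (p + 1) → ι) m, DCat.Acyclic.Acy
      (sectionsAt (Opens.grothendieckTopology X) (Cech.inter U c)) (L.X m)) (n : ℤ) :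
    Nonempty (CechTot.hyperH U (preCx K) n ≅ CechTot.hyperH U (preCx L) n) := by
  let ψ : CechTot.cech₂ U (preCx K) ⟶ CechTot.cech₂ U (preCx L) :=
    ((cechComplexFunctor U ⋙ ComplexShape.embeddingUpNat.extendFunctor AddCommGrpCat.{u}).mapHomologicalComplex
      up').map (((sheafToPresheaf _ AddCommGrpCat.{u}).mapHomologicalComplex up').map φ)
  have hq : ∀ M : CochainComplex (CohTop.Ab X) ℤ, M.IsStrictlyGE a →
      CommAlg4.TotalQuasi.Quad (CechTot.cech₂ U (preCx M)) a 0 := fun M _ =>
    quad_cech₂ U _ a fun i hi =>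
      (sheafToPresheaf _ AddCommGrpCat.{u}).map_isZero (CochainComplex.isZero_of_isStrictlyGE M a i hi)
  haveI : QuasiIso ψ := quasiIso_of_eval ψ fun q => by
    by_cases hq : ∃ k : ℕ, (k : ℤ) = q
    · obtain ⟨k, rfl⟩ := hq
      haveI := quasiIso_cochains U φ a k (hK k) (hL k)
      let e : ∀ M : CochainComplex (CohTop.Ab X) ℤ,
          (((HomologicalComplex.eval AddCommGrpCat.{u} up' k).mapHomologicalComplex up').obj
            (CechTot.cech₂ U (preCx M))) ≅ ((cochains U k).mapHomologicalComplex up').obj M := fun M =>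
        HomologicalComplex.Hom.isoOfComponents (fun m => (Cech.cx (M.X m).obj U).extendXIso
          ComplexShape.embeddingUpNat (i := k) (i' := (k : ℤ)) rfl) fun i j _ => by
            change _ ≫ (((cechComplexFunctor U).map (M.d i j).hom).f k) =
              (extendMap ((cechComplexFunctor U).map (M.d i j).hom) ComplexShape.embeddingUpNat).f (k : ℤ) ≫ _
            rw [extendMap_f _ ComplexShape.embeddingUpNat (i := k) (i' := (k : ℤ)) rfl]
            simp
      refine (quasiIso_iff_of_arrow_mk_iso _ _ (Arrow.isoMk (e K) (e L) ?_)).2 this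
      ext m : 1
      change _ ≫ ((cechComplexFunctor U).map (φ.f m).hom).f k =
        (extendMap ((cechComplexFunctor U).map (φ.f m).hom) ComplexShape.embeddingUpNat).f (k : ℤ) ≫ _
      rw [extendMap_f _ ComplexShape.embeddingUpNat (i := k) (i' := (k : ℤ)) rfl]
      simp [e]
    · have hz : ∀ (M : CochainComplex (CohTop.Ab X) ℤ) (m : ℤ),
          IsZero ((((HomologicalComplex.eval AddCommGrpCat.{u} up' q).mapHomologicalComplex up').obj
            (CechTot.cech₂ U (preCx M))).X m) := fun M m =>
        isZero_extend_X _ ComplexShape.embeddingUpNat _ fun k hk => hq ⟨k, hk⟩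
      refine ⟨fun m => ?_⟩
      rw [quasiIsoAt_iff_exactAt]
      all_goals rw [exactAt_iff]
      · exact ShortComplex.exact_of_isZero_X₂ _ (hz L m)
      · exact ShortComplex.exact_of_isZero_X₂ _ (hz K m)
  haveI := CommAlg4.TotalQuasi.quasiIso_total_map ψ (hq K inferInstance) (hq L inferInstance)
  exact ⟨isoOfQuasiIsoAt (HomologicalComplex₂.total.map ψ up') n⟩

end Acyclic

end Groth.Agent.CechSS14
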